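import Groth.Agent.SubAvoid14.IdealMulSec
import Groth.Agent.AmpleLib.FTIdeal
import Groth.Agent.Coherent.TensorQcoh
import Groth.Agent.Coherent.TensorSections

/-!
# Tensor powers of an ideal against a section on the complement (Deligne's formula)
-/

set_option autoImplicit false
set_option backward.isDefEq.respectTransparency false
set_option maxHeartbeats 800000

universe u

open CategoryTheory CategoryTheory.Limits AlgebraicGeometry Opposite TopologicalSpace
open Groth.Agent.Coherent Groth.Agent.PicLib Groth.Agent.AmpleLib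

noncomputable section

namespace Groth.Agent.TPowGen8

variable {X : Scheme.{u}}

/-- `G^⊗n ⟶ O` from `u : G ⟶ O`. -/
def powTo {G : X.Modules} (u : G ⟶ Coh.structureModule X) :
    ∀ n : ℕ, CohB1.tensorPow G n ⟶ Coh.structureModule X
  | 0 => 𝟙 _
  | n + 1 => AmpleLib.tensorMap (powTo u n) u ≫ (unitTensorIso (Coh.structureModule X)).hom

/-- `G^⊗n ⟶ H^⊗n` from `q : G ⟶ H`. -/
def powMap {G H : X.Modules} (q : G ⟶ H) : ∀ n : ℕ, CohB1.tensorPow G n ⟶ CohB1.tensorPow H n
  | 0 => 𝟙 _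
  | n + 1 => AmpleLib.tensorMap (powMap q n) q

/-- `k ⊗ ⋯ ⊗ k`. -/
def powS {G : X.Modules} {U : X.Opens} (k : Γ(G, U)) : ∀ n : ℕ, Γ(CohB1.tensorPow G n, U)
  | 0 => (show Γ(Coh.structureModule X, U) from (1 : Γ(X, U)))
  | n + 1 => tmul (powS k n) k

theorem powMap_powS {G H : X.Modules} (q : G ⟶ H) {U : X.Opens} (k : Γ(G, U)) :
    ∀ n : ℕ, (powMap q n).app U (powS k n) = powS (q.app U k) n
  | 0 => rfl
  | n + 1 => (AmpleLib.tensorMap_tmul (powMap q n) q (powS k n) k).trans
      (congrArg (tmul · _) (powMap_powS q k n))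

theorem powTo_succ_tmul {G : X.Modules} (u : G ⟶ Coh.structureModule X) (n : ℕ) {U : X.Opens}
    (a : Γ(CohB1.tensorPow G n, U)) (b : Γ(G, U)) :
    (powTo u (n + 1)).app U (tmul a b) =
      (show Γ(X, U) from (powTo u n).app U a) * (show Γ(X, U) from u.app U b) := by
  show (unitTensorIso (Coh.structureModule X)).hom.app U ((AmpleLib.tensorMap _ _).app U (tmul a b)) = _
  rw [AmpleLib.tensorMap_tmul]
  exact Bilin.desc_tmul _ _ _ _

theorem powTo_powS {G : X.Modules} (u : G ⟶ Coh.structureModule X) {U : X.Opens} (k : Γ(G, U))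
    (hk : u.app U k = (show Γ(Coh.structureModule X, U) from (1 : Γ(X, U)))) :
    ∀ n : ℕ, (powTo u n).app U (powS k n) = (show Γ(Coh.structureModule X, U) from (1 : Γ(X, U)))
  | 0 => rfl
  | n + 1 => by
    refine (powTo_succ_tmul u n (powS k n) k).trans ?_
    rw [powTo_powS u k hk n, hk]
    exact one_mul (1 : Γ(X, U))

theorem isQCoh_tensorPow {G : X.Modules} [Coh.IsQCoh G] : ∀ n : ℕ, Coh.IsQCoh (CohB1.tensorPow G n)
  | 0 => isQCoh_structureModule (X := X)
  | n + 1 =>
    have := isQCoh_tensorPow (G := G) n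
    isQCoh_tensorMod (CohB1.tensorPow G n) G

variable (I : X.IdealSheafData)

theorem idealModι_mem (V : X.affineOpens) (b : Γ(ClSub.idealMod I, V.1)) :
    (show Γ(X, V.1) from (ClSub.idealModι I).app V.1 b) ∈ I.ideal V := by
  rw [← I.ker_subschemeι_app V, RingHom.mem_ker]
  exact (AmpleLib.mem_range_idealModι I V.1 _).1 ⟨b, rfl⟩

theorem powTo_mem [Coh.IsQCoh (ClSub.idealMod I)] (V : X.affineOpens) :
    ∀ (n : ℕ) (z : Γ(CohB1.tensorPow (ClSub.idealMod I) n, V.1)),
      (show Γ(X, V.1) from (powTo (ClSub.idealModι I) n).app V.1 z) ∈ I.ideal V ^ n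
  | 0, z => by rw [pow_zero, Ideal.one_eq_top]; trivial
  | n + 1, z => by
    have := isQCoh_tensorPow (G := ClSub.idealMod I) n
    obtain ⟨w, rfl⟩ := (bijective_tmulMap V.2 (CohB1.tensorPow (ClSub.idealMod I) n)
      (ClSub.idealMod I)).2 z
    induction w using TensorProduct.induction_on with
    | zero =>
      rw [map_zero]
      exact (congrArg (· ∈ I.ideal V ^ (n + 1)) (map_zero ((powTo (ClSub.idealModι I) (n + 1)).app V.1).hom)).mpr
        (zero_mem _)
    | tmul a b =>
      rw [tmulMap_tmul, powTo_succ_tmul, pow_succ]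
      exact Ideal.mul_mem_mul (powTo_mem V n a) (idealModι_mem I V b)
    | add a b ha hb =>
      rw [map_add]
      exact (congrArg (· ∈ I.ideal V ^ (n + 1))
        (map_add ((powTo (ClSub.idealModι I) (n + 1)).app V.1).hom _ _)).mpr (add_mem ha hb)

theorem sec_ext_affine {M : X.Modules} {U : X.Opens} {s t : Γ(M, U)}
    (h : ∀ (W : X.Opens) (hW : W ≤ U), IsAffineOpen W →
      M.presheaf.map (homOfLE hW).op s = M.presheaf.map (homOfLE hW).op t) : s = t := by
  refine TopCat.Sheaf.eq_of_locally_eq' ⟨M.presheaf, M.isSheaf⟩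
    (fun W : {W : X.Opens // IsAffineOpen W ∧ W ≤ U} => W.1) U (fun W => homOfLE W.2.2) ?_ s t
    fun W => h W.1 W.2.2 W.2.1
  intro x hx
  obtain ⟨W, hW, hxW, hWU⟩ := Opens.isBasis_iff_nbhd.mp X.isBasis_affineOpens hx
  exact Opens.mem_iSup.mpr ⟨⟨W, hW, hWU⟩, hxW⟩

theorem exists_powTo_factor [Coh.IsQCoh (ClSub.idealMod I)] {m n : ℕ} (hmn : m ≤ n) :
    ∃ c : CohB1.tensorPow (ClSub.idealMod I) n ⟶ (Dual3.idealMul (I ^ m)).obj (Coh.structureModule X),
      c ≫ Dual3.idealMulι (I ^ m) (Coh.structureModule X) = powTo (ClSub.idealModι I) n := by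
  have : Coh.IsQCoh (Coh.structureModule X) := isQCoh_structureModule (X := X)
  let η := (Scheme.Modules.pullbackPushforwardAdjunction (I ^ m).subschemeι).unit.app (Coh.structureModule X)
  have h : powTo (ClSub.idealModι I) n ≫ η = 0 := by
    refine Scheme.Modules.hom_ext _ _ fun U => ?_
    ext z
    refine sec_ext_affine fun W hW hWa => ?_
    have e1 := congr($((powTo (ClSub.idealModι I) n ≫ η).mapPresheaf.naturality (homOfLE hW).op) z)
    refine e1.symm.trans ?_
    show η.app W ((powTo (ClSub.idealModι I) n).app W _) = _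
    have hmem := powTo_mem I ⟨W, hWa⟩ n ((CohB1.tensorPow (ClSub.idealMod I) n).presheaf.map (homOfLE hW).op z)
    have hle : I.ideal ⟨W, hWa⟩ ^ n ≤ (I ^ m).ideal ⟨W, hWa⟩ := by
      rw [Scheme.IdealSheafData.ideal_pow, Pi.pow_apply]
      exact Ideal.pow_le_pow_right hmn
    obtain ⟨a, ha⟩ := (SubAvoid14.mem_range_idealMulι_iff (I ^ m) (Coh.structureModule X) hWa _).2 (by
      have h2 := Submodule.smul_mem_smul (hle hmem)
        (Submodule.mem_top (x := (show Γ(Coh.structureModule X, W) from (1 : Γ(X, W)))))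
      rwa [show ∀ r : Γ(X, W), r • (show Γ(Coh.structureModule X, W) from (1 : Γ(X, W))) = r from
        fun r => mul_one r] at h2)
    refine (congrArg (fun v => η.app W v) ha.symm).trans ?_
    refine (congr($(kernel.condition η).app W a)).trans ?_
    exact (map_zero _).symm
  exact ⟨kernel.lift η _ h, kernel.lift_ι η _ h⟩

/-- A section over the complement of `V(I)` is hit by all high tensor powers of `I`. -/
theorem exists_powHom [IsNoetherian X] (hI : Coh.IsCoh (ClSub.idealMod I)) (N : X.Modules)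
    [Coh.IsQCoh N] (U : X.Opens) (hU : (U : Set X) = (I.support : Set X)ᶜ)
    (k : Γ(ClSub.idealMod I, U))
    (hk : (ClSub.idealModι I).app U k = (show Γ(Coh.structureModule X, U) from (1 : Γ(X, U))))
    (s : Γ(N, U)) :
    ∃ n₀ : ℕ, ∀ n : ℕ, n₀ ≤ n → ∃ χ : CohB1.tensorPow (ClSub.idealMod I) n ⟶ N,
      χ.app U (powS k n) = s := by
  haveI := hI.1
  let R := Scheme.Modules.restrictFunctor U.ι
  have hU' : U.ι ''ᵁ ⊤ = U := U.ι_image_top
  let s' : Γ(N.restrict U.ι, ⊤) := resM N (U.ι_image_le ⊤) s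
  let φ₀ : Coh.structureModule U.toScheme ⟶ N.restrict U.ι := unitDesc (N.restrict U.ι) s'
  let φ : (Coh.structureModule X).restrict U.ι ⟶ N.restrict U.ι :=
    (Scheme.Modules.restrictUnitIso U.ι).hom ≫ φ₀
  obtain ⟨m, ψ, hψ⟩ := SubAvoid14.exists_hom_idealMul N (Coh.structureModule X) ‹_›
    (isCoh_structureModule X) I U hU φ
  refine ⟨m, fun n hn => ?_⟩
  obtain ⟨c, hc⟩ := exists_powTo_factor I hn
  refine ⟨c ≫ ψ, ?_⟩
  have h1 : (Dual3.idealMulι (I ^ m) (Coh.structureModule X)).app U (c.app U (powS k n)) =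
      (show Γ(Coh.structureModule X, U) from (1 : Γ(X, U))) :=
    (congr($(hc).app U (powS k n))).trans (powTo_powS _ k hk n)
  generalize hw : c.app U (powS k n) = w at h1
  show ψ.app U (c.app U (powS k n)) = s
  rw [hw]
  have hle : U ≤ U.ι ''ᵁ ⊤ := hU'.ge
  have hle' : U.ι ''ᵁ ⊤ ≤ U := hU'.le
  suffices h : ψ.app (U.ι ''ᵁ ⊤) (resM _ hle' w) = resM N hle' s by
    have h' := congrArg (resM N hle) h
    rw [resM_resM, resM_self] at h'
    rw [← h']
    exact (congr($(ψ.mapPresheaf.naturality (homOfLE hle).op) (resM _ hle' w))).symm.trans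
      (congrArg (ψ.app U) ((resM_resM _ hle' hle w).trans (resM_self _ _ w)))
      |>.symm
  have h2 : (Dual3.idealMulι (I ^ m) (Coh.structureModule X)).app (U.ι ''ᵁ ⊤) (resM _ hle' w) =
      (show Γ(Coh.structureModule X, U.ι ''ᵁ ⊤) from (1 : Γ(X, U.ι ''ᵁ ⊤))) := by
    refine (congr($((Dual3.idealMulι (I ^ m) (Coh.structureModule X)).mapPresheaf.naturality
      (homOfLE hle').op) w)).trans ?_
    refine (congrArg (resM _ hle') h1).trans ?_
    exact map_one (X.presheaf.map (homOfLE hle').op).hom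
  refine (congr($(hψ).app ⊤ (resM _ hle' w))).trans ?_
  show φ.app ⊤ ((Dual3.idealMulι (I ^ m) (Coh.structureModule X)).app (U.ι ''ᵁ ⊤) (resM _ hle' w)) = _
  rw [h2]
  have h3 : (Scheme.Modules.restrictUnitIso U.ι).hom.app ⊤
      (show Γ((Coh.structureModule X).restrict U.ι, ⊤) from (1 : Γ(X, U.ι ''ᵁ ⊤))) =
      (show Γ(Coh.structureModule U.toScheme, ⊤) from (1 : Γ(U.toScheme, ⊤))) :=
    map_one (U.ι.appIso ⊤).hom.hom
  refine (congrArg (φ₀.app ⊤) h3).trans ?_
  refine (unitVal_unitDesc (N.restrict U.ι) s' ⊤).trans ?_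
  exact resM_self _ _ s'

end Groth.Agent.TPowGen8
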