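import Groth.Agent.TPowGen8.Ideal
import Groth.Agent.H8Lim.Approximation
import Groth.Agent.H8Lim.ModEq
import Groth.Agent.Coherent.ProjSpaceFinite
import Groth.Agent.Coherent.Existence.EssSurj
import Groth.Agent.Clifford24.SmoothFamily
import Groth.Agent.CAlgSmall.FPExtend

/-!
# A finitely presented module whose tensor powers generate (qcqs schemes)
-/

set_option autoImplicit false
set_option backward.isDefEq.respectTransparency false
set_option maxHeartbeats 1600000

universe u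

open CategoryTheory CategoryTheory.Limits AlgebraicGeometry Opposite TopologicalSpace
open Groth.Agent.Coherent Groth.Agent.PicLib Groth.Agent.AmpleLib

noncomputable section

namespace Groth.Agent.TPowGen8

set_option backward.isDefEq.respectTransparency.types false in
theorem exists_generator (X : Scheme.{u}) [CompactSpace X] [QuasiSeparatedSpace X] :
    ∃ F : X.Modules, Coh.IsQCoh F ∧ CohB1.IsFP F ∧
      ∀ M : X.Modules, Coh.IsQCoh M → CohB1.IsFP M →
        ∃ n₀ m₀ : ℕ, ∀ n m : ℕ, n₀ ≤ n → m₀ ≤ m →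
          ∃ π : (∐ fun _ : Fin m => CohB1.tensorPow F n) ⟶ M, Epi π := by
  classical
  let R : Scheme.{u} := Spec (CommRingCat.of (ULift.{u} ℤ))
  haveI : IsLocallyNoetherian R :=
    have : IsNoetherianRing (ULift.{u} ℤ) := isNoetherianRing_of_ringEquiv ℤ ULift.ringEquiv.symm
    inferInstance
  let g : X ⟶ R := X.toSpecΓ ≫ Spec.map (CommRingCat.ofHom
    ((Int.castRingHom Γ(X, ⊤)).comp ULift.ringEquiv.toRingHom))
  obtain ⟨X₀, a, f₁, ha, hc, hqs, hft, -⟩ := H8Lim.exists_isAffineHom_locallyOfFiniteType g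
  haveI := ha; haveI := hc; haveI := hqs; haveI := hft
  haveI : IsLocallyNoetherian X₀ := LocallyOfFiniteType.isLocallyNoetherian f₁
  haveI : IsNoetherian X₀ := ⟨⟩
  obtain ⟨T, hT⟩ := isCompact_univ.elim_finite_subcover
    (fun V : X₀.affineOpens => ((V.1 : X₀.Opens) : Set X₀)) (fun V => V.1.2) fun x _ => by
      obtain ⟨V, hV, hxV, -⟩ := exists_isAffineOpen_mem_and_subset (x := x) (U := ⊤) trivial
      exact Set.mem_iUnion.2 ⟨⟨V, hV⟩, hxV⟩
  have hideal : ∀ j : Fin T.card, ∃ I : X₀.IdealSheafData, Coh.IsCoh (ClSub.idealMod I) ∧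
      (⟨(I.support : Set X₀)ᶜ, I.support.2.isOpen_compl⟩ : X₀.Opens) = (T.equivFin.symm j : X₀.affineOpens).1 := fun j => by
    obtain ⟨I, -, hI, hIU⟩ := AmpleLib.exists_idealMod_compl (T.equivFin.symm j : X₀.affineOpens).2
    exact ⟨I, hI, hIU⟩
  choose I hI hIU using hideal
  let V : Fin T.card → X₀.Opens := fun j => ⟨((I j).support : Set X₀)ᶜ, (I j).support.2.isOpen_compl⟩
  have hVaff : ∀ j, IsAffineOpen (a ⁻¹ᵁ V j) := fun j => by
    rw [show V j = (T.equivFin.symm j : X₀.affineOpens).1 from hIU j]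
    exact (T.equivFin.symm j : X₀.affineOpens).2.preimage a
  have hVcov : ∀ x : X, ∃ j, x ∈ a ⁻¹ᵁ V j := fun x => by
    obtain ⟨W, hW, hxW⟩ := Set.mem_iUnion₂.1 (hT (Set.mem_univ (a.base x)))
    refine ⟨T.equivFin ⟨W, hW⟩, ?_⟩
    show a.base x ∈ V (T.equivFin ⟨W, hW⟩)
    rw [show V (T.equivFin ⟨W, hW⟩) = _ from hIU _, Equiv.symm_apply_apply]
    exact hxW
  choose k hk using fun j => AmpleLib.exists_idealModι_eq_one (I j)
  let G : Fin T.card → X₀.Modules := fun j => ClSub.idealMod (I j)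
  haveI : HasFiniteBiproducts X₀.Modules := HasFiniteBiproducts.of_hasFiniteProducts
  let F₀ : X₀.Modules := ⨁ G
  have hF₀ : Coh.IsCoh F₀ := isCoh_biproduct G hI
  let F : X.Modules := (Scheme.Modules.pullback a).obj F₀
  have hFfp : CohB1.IsFP F :=
    Desc19b.ModStFib.isFP_pullback a F₀ ((isCoh_iff_isFP F₀).1 hF₀)
  have hFq : Coh.IsQCoh F := CAlgSmall.FPExtend.isQCoh_of_isFP F hFfp
  refine ⟨F, hFq, hFfp, fun M hM hMfp => ?_⟩
  haveI := hM
  have hN : Coh.IsQCoh ((Scheme.Modules.pushforward a).obj M) := isQCoh_push a M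
  have hgen : ∀ j, ∃ S : Finset Γ(M, a ⁻¹ᵁ V j),
      Submodule.span Γ(X, a ⁻¹ᵁ V j) (S : Set Γ(M, a ⁻¹ᵁ V j)) = ⊤ := fun j =>
    (H8Lim.finite_sections_of_isFT (CAlgSmall.FPExtend.isFT_of_isFP M hMfp) (hVaff j)).fg_top
  choose S hS using hgen
  let K := Σ j : Fin T.card, ↥(S j)
  have hpow : ∀ c : K, ∃ n₀ : ℕ, ∀ n : ℕ, n₀ ≤ n →
      ∃ χ : CohB1.tensorPow (G c.1) n ⟶ (Scheme.Modules.pushforward a).obj M,
        χ.app (V c.1) (powS (k c.1) n) = (show Γ((Scheme.Modules.pushforward a).obj M, V c.1) from c.2.1) :=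
    fun c => exists_powHom (I c.1) (hI c.1) _ (V c.1) rfl (k c.1) (hk c.1) _
  choose N₀ hN₀ using hpow
  refine ⟨Finset.univ.sup N₀, Fintype.card K, fun n m hn hm => ?_⟩
  choose χ hχ using fun c : K => hN₀ c n ((Finset.le_sup (Finset.mem_univ c)).trans hn)
  obtain ⟨e⟩ := Clifford24.nonempty_pullback_tensorPow a F₀ n
  let θ : K → (CohB1.tensorPow F n ⟶ M) := fun c =>
    e.inv ≫ ((Scheme.Modules.pullbackPushforwardAdjunction a).homEquiv _ _).symm
      (powMap (biproduct.π G c.1) n ≫ χ c)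
  have hθ : ∀ c : K, ∃ z, (θ c).app (a ⁻¹ᵁ V c.1) z = c.2.1 := fun c => by
    have hb : (biproduct.π G c.1).app (V c.1) ((biproduct.ι G c.1).app (V c.1) (k c.1)) = k c.1 := by
      refine (congr($(biproduct.ι_π_self G c.1).app (V c.1) (k c.1)))
    refine ⟨e.hom.app _ (PicLib.pullSec a (powS ((biproduct.ι G c.1).app (V c.1) (k c.1)) n)), ?_⟩
    refine (congrArg (fun v => (((Scheme.Modules.pullbackPushforwardAdjunction a).homEquiv _ _).symm
      (powMap (biproduct.π G c.1) n ≫ χ c)).app (a ⁻¹ᵁ V c.1) v)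
        (show e.inv.app _ (e.hom.app _ _) = _ from congr($(e.hom_inv_id).app _ _))).trans ?_
    refine (PicLib.homEquiv_symm_app_pullSec a _ _).trans ?_
    show (χ c).app (V c.1) ((powMap (biproduct.π G c.1) n).app (V c.1) _) = _
    rw [powMap_powS, hb]
    exact hχ c
  let ε := (Fintype.equivFin K).symm
  let φ : Fin m → (CohB1.tensorPow F n ⟶ M) := fun p =>
    if h : (p : ℕ) < Fintype.card K then θ (ε ⟨p, h⟩) else 0
  haveI : HasFiniteBiproducts X.Modules := HasFiniteBiproducts.of_hasFiniteProducts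
  let ρ : (⨁ fun _ : Fin m => CohB1.tensorPow F n) ⟶ M := biproduct.desc φ
  haveI := isQCoh_tensorPow (G := F) n
  haveI : Coh.IsQCoh (⨁ fun _ : Fin m => CohB1.tensorPow F n) :=
    isQCoh_biproduct _ fun _ => inferInstance
  have hρ : Epi ρ := by
    refine Coherent.Existence.epi_of_cover_surjective (fun j => a ⁻¹ᵁ V j) hVaff hVcov ρ fun j => ?_
    let L : Γ(⨁ fun _ : Fin m => CohB1.tensorPow F n, a ⁻¹ᵁ V j) →ₗ[Γ(X, a ⁻¹ᵁ V j)] Γ(M, a ⁻¹ᵁ V j) :=
      { toFun := fun v => ρ.app (a ⁻¹ᵁ V j) v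
        map_add' := map_add _
        map_smul' := fun r v => Scheme.Modules.Hom.app_smul ρ r v }
    have hlin : LinearMap.range L = ⊤ := by
      rw [eq_top_iff, ← hS j, Submodule.span_le]
      intro s hs
      let c : K := ⟨j, s, hs⟩
      obtain ⟨z, hz⟩ := hθ c
      let p : Fin m := ⟨(Fintype.equivFin K c : ℕ), lt_of_lt_of_le (Fintype.equivFin K c).2 hm⟩
      refine ⟨(biproduct.ι (fun _ : Fin m => CohB1.tensorPow F n) p).app _ z, ?_⟩
      refine (congr($(biproduct.ι_desc φ p).app (a ⁻¹ᵁ V j) z)).trans ?_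
      have hp : φ p = θ c := by
        simp only [φ, p, dif_pos (Fintype.equivFin K c).2, ε, Fin.eta, Equiv.symm_apply_apply]
      rw [hp]
      exact hz
    intro v
    obtain ⟨z, hz⟩ := hlin.ge (Submodule.mem_top (x := v))
    exact ⟨z, hz⟩
  exact ⟨(biproduct.isoCoproduct _).inv ≫ ρ, epi_comp _ _⟩

end Groth.Agent.TPowGen8
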